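import Mathlib
import Groth.Agent.Neron6.Over

/-! # The extension property with respect to an open, for pseudo-torsors -/

universe u

open CategoryTheory Limits MonoidalCategory CartesianMonoidalCategory AlgebraicGeometry

set_option backward.isDefEq.respectTransparency false
set_option backward.isDefEq.respectTransparency.types false

noncomputable section

namespace Groth.Agent.NmpTorsor

variable {S : Scheme.{u}} (U : S.Opens)

/-- The part of an `S`-scheme over the open. -/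
def resObj (Z : Over S) : Over S := Over.mk (pullback.fst Z.hom U.ι ≫ Z.hom)

/-- Its inclusion. -/
def j (Z : Over S) : resObj U Z ⟶ Z := Over.homMk (pullback.fst Z.hom U.ι) rfl

/-- Restriction to the open is bijective. -/
def Ext (X : Over S) : Prop :=
  ∀ Z : Over S, Smooth Z.hom → Function.Bijective (fun g : Z ⟶ X => j U Z ≫ g)

theorem ext_iff (X : Over S) :
    Ext U X ↔ ∀ Z : Over S, Smooth Z.hom →
      Function.Bijective (fun g : Z ⟶ X => (Over.pullback U.ι).map g) := by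
  refine forall₂_congr fun Z hZ => ?_
  let T : ((Over.pullback U.ι).obj Z ⟶ (Over.pullback U.ι).obj X) → (resObj U Z ⟶ X) := fun h =>
    Over.homMk (h.left ≫ pullback.fst X.hom U.ι) (by
      show (h.left ≫ pullback.fst X.hom U.ι) ≫ X.hom = pullback.fst Z.hom U.ι ≫ Z.hom
      rw [Category.assoc, pullback.condition, pullback.condition, ← Category.assoc]
      exact congrArg (· ≫ U.ι) (Over.w h))
  have hT : Function.Bijective T := by
    refine ⟨fun a b h => Neron6.pullback_hom_ext _ _ _ (congrArg CommaMorphism.left h), fun k => ?_⟩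
    refine ⟨Over.homMk (pullback.lift k.left (pullback.snd Z.hom U.ι)
      ((Over.w k).trans pullback.condition)) (pullback.lift_snd _ _ _), ?_⟩
    ext1
    exact pullback.lift_fst _ _ _
  have hTF : (fun g : Z ⟶ X => j U Z ≫ g) = T ∘ (fun g : Z ⟶ X => (Over.pullback U.ι).map g) := by
    funext g
    ext1
    exact (Neron6.pullback_map_fst U.ι g).symm
  rw [hTF]
  exact ⟨fun h => (Function.Bijective.of_comp_iff' hT _).1 h, fun h => hT.comp h⟩

theorem range_subset (Z : Over S) (a : ↥(resObj U Z).left) : (resObj U Z).hom a ∈ U := by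
  show (pullback.fst Z.hom U.ι ≫ Z.hom) a ∈ U
  rw [pullback.condition, Scheme.Hom.comp_apply]
  exact (pullback.snd Z.hom U.ι a).2

instance (Z : Over S) : Mono (j U Z) := by
  haveI : Mono (j U Z).left := inferInstanceAs (Mono (pullback.fst Z.hom U.ι))
  exact Over.mono_of_mono_left _

theorem exists_lift {A Z : Over S} (a : A ⟶ Z) (h : ∀ x, A.hom x ∈ U) :
    ∃ b : A ⟶ resObj U Z, b ≫ j U Z = a := by
  let s : A.left ⟶ U.toScheme := IsOpenImmersion.lift U.ι A.hom (by
    rw [Scheme.Opens.range_ι]; rintro _ ⟨x, rfl⟩; exact h x)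
  have hs : a.left ≫ Z.hom = s ≫ U.ι := by rw [Over.w, IsOpenImmersion.lift_fac]
  refine ⟨Over.homMk (pullback.lift a.left s hs) ?_, ?_⟩
  · show pullback.lift a.left s hs ≫ pullback.fst _ _ ≫ Z.hom = A.hom
    rw [pullback.lift_fst_assoc, Over.w]
  · ext1
    exact pullback.lift_fst _ _ _

instance smooth_tensor {A B : Over S} [Smooth A.hom] [Smooth B.hom] : Smooth (A ⊗ B).hom :=
  inferInstanceAs (Smooth (pullback.fst A.hom B.hom ≫ A.hom))

theorem effectiveEpi_fst {A B : Over S} [Smooth B.hom] [Surjective B.hom] :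
    EffectiveEpi (fst A B).left := by
  have h : (fst A B).left = pullback.fst A.hom B.hom := rfl
  rw [h]
  infer_instance

theorem epi_fst {A B : Over S} [Smooth B.hom] [Surjective B.hom] : Epi (fst A B) := by
  haveI := effectiveEpi_fst (A := A) (B := B)
  exact Over.epi_of_epi_left _

/-- Descent of an extension along the projection from a smooth surjective factor. -/
theorem exists_descend {X N Z : Over S} [Smooth Z.hom] [Smooth N.hom] [Surjective N.hom]
    (hinj : ∀ T : Over S, Smooth T.hom → Function.Injective (fun g : T ⟶ X => j U T ≫ g))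
    (h : resObj U Z ⟶ X) (γ : Z ⊗ N ⟶ X) (φ₀ : resObj U (Z ⊗ N) ⟶ resObj U Z)
    (hφ₀ : φ₀ ≫ j U Z = j U (Z ⊗ N) ≫ fst Z N) (hγ : j U (Z ⊗ N) ≫ γ = φ₀ ≫ h) :
    ∃ d : Z ⟶ X, j U Z ≫ d = h := by
  haveI := effectiveEpi_fst (A := Z) (B := N)
  haveI := epi_fst (A := resObj U Z) (B := N)
  have hcompat : ∀ {T : Scheme.{u}} (g₁ g₂ : T ⟶ (Z ⊗ N).left),
      g₁ ≫ (fst Z N).left = g₂ ≫ (fst Z N).left → g₁ ≫ γ.left = g₂ ≫ γ.left := by
    intro T g₁ g₂ hg
    let T' : Over S := Over.mk (g₁ ≫ (Z ⊗ N).hom)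
    have hw : g₂ ≫ (Z ⊗ N).hom = g₁ ≫ (Z ⊗ N).hom := by
      rw [← Over.w (fst Z N), ← Category.assoc, ← Category.assoc, hg]
    let a : T' ⟶ Z ⊗ N := Over.homMk g₁ rfl
    let b : T' ⟶ Z ⊗ N := Over.homMk g₂ hw
    have hab : a ≫ fst Z N = b ≫ fst Z N := Over.OverMorphism.ext hg
    let W₂ : Over S := Z ⊗ (N ⊗ N)
    let p₁ : W₂ ⟶ Z ⊗ N := lift (fst _ _) (snd _ _ ≫ fst _ _)
    let p₂ : W₂ ⟶ Z ⊗ N := lift (fst _ _) (snd _ _ ≫ snd _ _)
    let c : T' ⟶ W₂ := lift (a ≫ fst Z N) (lift (a ≫ snd Z N) (b ≫ snd Z N))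
    have hca : c ≫ p₁ = a := by
      apply CartesianMonoidalCategory.hom_ext <;> simp [c, p₁]
    have hcb : c ≫ p₂ = b := by
      apply CartesianMonoidalCategory.hom_ext
      · simp only [c, p₂, Category.assoc, lift_fst]
        exact hab
      · simp [c, p₂]
    have hp : p₁ ≫ γ = p₂ ≫ γ := by
      refine hinj W₂ inferInstance ?_
      show j U W₂ ≫ p₁ ≫ γ = j U W₂ ≫ p₂ ≫ γ
      obtain ⟨q₁, hq₁⟩ := exists_lift U (j U W₂ ≫ p₁) (range_subset U W₂)
      obtain ⟨q₂, hq₂⟩ := exists_lift U (j U W₂ ≫ p₂) (range_subset U W₂)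
      rw [← reassoc_of% hq₁, ← reassoc_of% hq₂, hγ]
      have : q₁ ≫ φ₀ = q₂ ≫ φ₀ := by
        rw [← cancel_mono (j U Z), Category.assoc, Category.assoc, hφ₀, ← Category.assoc,
          ← Category.assoc, hq₁, hq₂]
        simp [p₁, p₂]
      rw [reassoc_of% this]
    have : a ≫ γ = b ≫ γ := by rw [← hca, ← hcb, Category.assoc, Category.assoc, hp]
    exact congrArg CommaMorphism.left this
  let dl : Z.left ⟶ X.left := EffectiveEpi.desc (fst Z N).left γ.left hcompat
  have hdl : (fst Z N).left ≫ dl = γ.left := EffectiveEpi.fac _ _ _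
  let d : Z ⟶ X := Over.homMk dl (by
    rw [← cancel_epi (fst Z N).left, ← Category.assoc, hdl, Over.w, Over.w])
  have hd : fst Z N ≫ d = γ := Over.OverMorphism.ext hdl
  refine ⟨d, ?_⟩
  obtain ⟨m, hm⟩ := exists_lift U (j U Z ▷ N) fun x => by
    rw [← Over.w (fst (resObj U Z) N), Scheme.Hom.comp_apply]
    exact range_subset U Z _
  rw [← cancel_epi (fst (resObj U Z) N)]
  have h1 : m ≫ φ₀ = fst (resObj U Z) N := by
    rw [← cancel_mono (j U Z), Category.assoc, hφ₀, reassoc_of% hm]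
    simp
  calc fst (resObj U Z) N ≫ j U Z ≫ d = (j U Z ▷ N) ≫ fst Z N ≫ d := by simp
    _ = m ≫ j U (Z ⊗ N) ≫ γ := by rw [hd, reassoc_of% hm]
    _ = fst (resObj U Z) N ≫ h := by rw [hγ, reassoc_of% h1]

theorem iff_of_pseudoTorsor {G N : Over S} [Smooth N.hom] [Surjective N.hom] (act : G ⊗ N ⟶ N)
    [IsIso (lift act (snd G N))] : Ext U G ↔ Ext U N := by
  let t : G ⊗ N ⟶ N ⊗ N := lift act (snd G N)
  haveI : IsIso t := inferInstanceAs (IsIso (lift act (snd G N)))
  let δ : N ⊗ N ⟶ G := inv t ≫ fst G N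
  have hti : inv t ≫ snd G N = snd N N := by
    rw [IsIso.inv_comp_eq]; simp [t]
  have hinv : lift δ (snd N N) = inv t := by
    apply CartesianMonoidalCategory.hom_ext <;> simp [δ, hti]
  have hδact : lift δ (snd N N) ≫ act = fst N N := by
    rw [hinv, IsIso.inv_comp_eq]; simp [t]
  have hact' : ∀ {T : Over S} (n m : T ⟶ N), lift (lift n m ≫ δ) m ≫ act = n := by
    intro T n m
    have h := congrArg (lift n m ≫ ·) hδact
    simp only [comp_lift_assoc, lift_snd, lift_fst] at h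
    exact h
  have hδ' : ∀ {T : Over S} (g : T ⟶ G) (m : T ⟶ N), lift (lift g m ≫ act) m ≫ δ = g := by
    intro T g m
    have : lift (lift g m ≫ act) m = lift g m ≫ t := by
      apply CartesianMonoidalCategory.hom_ext <;> simp [t]
    rw [this]
    simp [δ]
  constructor
  · intro hG
    have hinjN : ∀ T : Over S, Smooth T.hom → Function.Injective (fun g : T ⟶ N => j U T ≫ g) := by
      intro T hT g g' hg
      change j U T ≫ g = j U T ≫ g' at hg
      have h1 : lift g g' ≫ δ = lift g' g' ≫ δ := by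
        refine (hG T hT).1 ?_
        show j U T ≫ lift g g' ≫ δ = j U T ≫ lift g' g' ≫ δ
        rw [comp_lift_assoc, comp_lift_assoc, hg]
      rw [← hact' g g', h1, hact']
    intro Z hZ
    haveI := hZ
    refine ⟨hinjN Z hZ, fun h => ?_⟩
    obtain ⟨φ₀, hφ₀⟩ := exists_lift U (j U (Z ⊗ N) ≫ fst Z N) (range_subset U _)
    obtain ⟨γ, hγ⟩ := (hG (Z ⊗ N) inferInstance).2 (lift (φ₀ ≫ h) (j U (Z ⊗ N) ≫ snd Z N) ≫ δ)
    change j U (Z ⊗ N) ≫ γ = _ at hγ
    refine exists_descend U hinjN h (lift γ (snd Z N) ≫ act) φ₀ hφ₀ ?_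
    rw [comp_lift_assoc, hγ, hact']
  · intro hN
    have hinjG : ∀ T : Over S, Smooth T.hom → Function.Injective (fun g : T ⟶ G => j U T ≫ g) := by
      intro T hT g g' hg
      haveI := hT
      change j U T ≫ g = j U T ≫ g' at hg
      haveI := epi_fst (A := T) (B := N)
      rw [← cancel_epi (fst T N)]
      have h1 : lift (fst T N ≫ g) (snd T N) ≫ act = lift (fst T N ≫ g') (snd T N) ≫ act := by
        refine (hN (T ⊗ N) inferInstance).1 ?_
        show j U _ ≫ _ = j U _ ≫ _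
        obtain ⟨q, hq⟩ := exists_lift U (j U (T ⊗ N) ≫ fst T N) (range_subset U _)
        rw [comp_lift_assoc, comp_lift_assoc, ← reassoc_of% hq, ← reassoc_of% hq, hg]
      rw [← hδ' (fst T N ≫ g) (snd T N), h1, hδ']
    intro Z hZ
    haveI := hZ
    refine ⟨hinjG Z hZ, fun h => ?_⟩
    obtain ⟨φ₀, hφ₀⟩ := exists_lift U (j U (Z ⊗ N) ≫ fst Z N) (range_subset U _)
    obtain ⟨e, he⟩ := (hN (Z ⊗ N) inferInstance).2 (lift (φ₀ ≫ h) (j U (Z ⊗ N) ≫ snd Z N) ≫ act)
    change j U (Z ⊗ N) ≫ e = _ at he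
    refine exists_descend U hinjG h (lift e (snd Z N) ≫ δ) φ₀ hφ₀ ?_
    rw [comp_lift_assoc, he, hδ']

end Groth.Agent.NmpTorsor
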